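import Mathlib.RingTheory.WittVector.Truncated
import Mathlib.RingTheory.WittVector.Teichmuller
import Mathlib.RingTheory.Ideal.Quotient.Operations
import Mathlib.RingTheory.WittVector.WittPolynomial
import Mathlib.RingTheory.WittVector.Identities

/-!
# The map theta from truncated Witt vectors
-/

set_option autoImplicit false

universe u

namespace Groth.Agent.WittThetaH7

open Finset

variable {p : ℕ} [Fact p.Prime] {B : Type u} [CommRing B]

theorem ghostComponent_eq_sum (n : ℕ) (hp : (p : B) ^ n = 0) (x : WittVector p B) :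
    WittVector.ghostComponent n x = ∑ i : Fin n, (p : B) ^ (i : ℕ) * (x.coeff i) ^ (p ^ (n - i)) := by
  rw [WittVector.ghostComponent_apply, aeval_wittPolynomial, Finset.sum_range_succ, hp, zero_mul,
    add_zero, Fin.sum_univ_eq_sum_range (fun i => (p : B) ^ i * (x.coeff i) ^ (p ^ (n - i)))]

/-- Surjectivity of theta when the reduction mod p has surjective Frobenius. -/
theorem theta_surjective (n : ℕ) (hp : (p : B) ^ n = 0)
    (hF : Function.Surjective (fun y : B ⧸ (Ideal.span {(p : B)}) => y ^ p))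
    (θ : TruncatedWittVector p n (B ⧸ (Ideal.span {(p : B)})) →+* B)
    (hθ : ∀ x : WittVector p B, θ (WittVector.truncate n (WittVector.map (Ideal.Quotient.mk (Ideal.span {(p : B)})) x)) =
        ∑ i : Fin n, (p : B) ^ (i : ℕ) * (x.coeff i) ^ (p ^ (n - i))) :
    Function.Surjective θ := by
  rcases n with _ | m
  · have : Subsingleton B := subsingleton_of_zero_eq_one (by simpa using hp.symm)
    exact fun b => ⟨0, Subsingleton.elim _ _⟩
  have hFn : ∀ k, Function.Surjective (fun y : B ⧸ (Ideal.span {(p : B)}) => y ^ (p ^ k)) := by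
    intro k
    induction k with
    | zero => intro y; exact ⟨y, by simp⟩
    | succ k ih =>
      intro y
      obtain ⟨z, rfl⟩ := hF y
      obtain ⟨w, rfl⟩ := ih z
      exact ⟨w, by simp only; rw [← pow_mul, pow_succ]⟩
  have hstep : ∀ b : B, ∃ t z, b = θ t + (p : B) * z := by
    intro b
    obtain ⟨y, hy⟩ := hFn (m + 1) (Ideal.Quotient.mk _ b)
    obtain ⟨y, rfl⟩ := Ideal.Quotient.mk_surjective y
    have hy' : Ideal.Quotient.mk (Ideal.span {(p : B)}) (y ^ p ^ (m + 1)) = Ideal.Quotient.mk _ b := by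
      rw [map_pow]; exact hy
    obtain ⟨z, hz⟩ := Ideal.mem_span_singleton'.1 (Ideal.Quotient.eq.1 hy'.symm)
    refine ⟨WittVector.truncate (m + 1) (WittVector.map (Ideal.Quotient.mk _) (WittVector.teichmuller p y)), z, ?_⟩
    have h0 : θ (WittVector.truncate (m + 1) (WittVector.map (Ideal.Quotient.mk _) (WittVector.teichmuller p y))) =
        y ^ p ^ (m + 1) := by
      rw [hθ, Fin.sum_univ_succ, Fintype.sum_eq_zero _ (fun i => by
        rw [WittVector.teichmuller_coeff_pos p y _ (by simp), zero_pow (pow_ne_zero _ (Nat.Prime.ne_zero Fact.out)),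
          mul_zero])]
      simp [WittVector.teichmuller_coeff_zero]
    rw [h0]
    linear_combination -hz
  have hall : ∀ k (b : B), ∃ t z, b = θ t + (p : B) ^ k * z := by
    intro k
    induction k with
    | zero => intro b; exact ⟨0, b, by simp⟩
    | succ k ih =>
      intro b
      obtain ⟨t, z, rfl⟩ := ih b
      obtain ⟨t', z', rfl⟩ := hstep z
      exact ⟨t + (p : TruncatedWittVector p (m + 1) (B ⧸ Ideal.span {(p : B)})) ^ k * t', z', by
        rw [map_add θ, map_mul θ, map_pow θ, map_natCast θ]; ring⟩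
  intro b
  obtain ⟨t, z, rfl⟩ := hall (m + 1) b
  exact ⟨t, by rw [hp, zero_mul, add_zero]⟩

/-- The zeroth coefficient to the power p^n lies in (p) modulo theta. -/
theorem coeff_zero_pow_sub_theta_mem (n : ℕ) (hn : 0 < n)
    (θ : TruncatedWittVector p n (B ⧸ (Ideal.span {(p : B)})) →+* B)
    (hθ : ∀ x : WittVector p B, θ (WittVector.truncate n (WittVector.map (Ideal.Quotient.mk (Ideal.span {(p : B)})) x)) =
        ∑ i : Fin n, (p : B) ^ (i : ℕ) * (x.coeff i) ^ (p ^ (n - i)))
    (a : TruncatedWittVector p n (B ⧸ (Ideal.span {(p : B)}))) :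
    (TruncatedWittVector.coeff ⟨0, hn⟩ a) ^ (p ^ n) = Ideal.Quotient.mk _ (θ a) := by
  obtain ⟨w, rfl⟩ := WittVector.truncate_surjective p n _ a
  obtain ⟨x, rfl⟩ := WittVector.map_surjective _ Ideal.Quotient.mk_surjective w
  rw [hθ, WittVector.coeff_truncate, WittVector.map_coeff, map_sum, Finset.sum_eq_single (⟨0, hn⟩ : Fin n)]
  · simp
  · rintro ⟨i, hi⟩ - hne
    have hi0 : i ≠ 0 := fun h => hne (Fin.ext h)
    rw [map_mul, map_pow, map_natCast,
      show ((p : B ⧸ Ideal.span {(p : B)})) = 0 by
        rw [← map_natCast (Ideal.Quotient.mk _), Ideal.Quotient.eq_zero_iff_mem]; exact Ideal.mem_span_singleton_self _,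
      zero_pow hi0, zero_mul]
  · simp

end Groth.Agent.WittThetaH7
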